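import Cfsg.Agent.H2.U6E.Ext
import Cfsg.Agent.H39.U6E.IndexTwo
import Cfsg.Agent.H33.U6E.Weak
import Cfsg.Agent.H55.U6C.Fixed
import Cfsg.Agent.H55.U6C.FixedWcj
import Cfsg.Agent.H38.U6C.Main
import Cfsg.Agent.H38.U6C.Adapt
import Cfsg.Agent.H33.U6E.CKill
import Cfsg.Agent.H1.Cores

/-!
Assembly of S3231: a subgroup of index two meeting the involution centraliser in `H₀`, to which the
recognition of the unitary group in dimension six is applied.
-/

set_option autoImplicit false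

namespace H2.U6E

open H38.U6C H50.U6C

universe u v w

/-- The index-two subgroup in the case with two fixed dimensions. -/
def FixedIndexStmt : Prop :=
  ∀ {G : Type u} [Group G] [Finite G] {F : Type v} [Field F] [Fintype F] {z : G}
    {J H₀ : Subgroup G} {π : ↥H₀ →* Cfsg.PSp 2 F} (S : Setup z J H₀ π) (U : Subgroup H₀),
    Fixed2 (G := ↥H₀) ⟨z, S.J_le S.z_mem⟩ (J.subgroupOf H₀) U →
    ∃ G₀ : Subgroup G, G₀.index = 2 ∧ G₀ ⊓ Subgroup.centralizer ({z} : Set G) = H₀

/-- The unitary groups over two fields with four elements are isomorphic. -/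
theorem psu_congr {F' K : Type*} [Field F'] [Fintype F'] [Field K] [Fintype K]
    (hF : Fintype.card F' = 4) (hK : Fintype.card K = 4) :
    Nonempty (Cfsg.PSU 6 F' 2 ≃* Cfsg.PSU 6 K 2) := by
  obtain ⟨ψ⟩ : Nonempty (F' ≃+* K) := ⟨FiniteField.ringEquivOfCardEq (by rw [hF, hK])⟩
  let es := H64.suCongr 6 2 ψ
  have hc : (Subgroup.center ↥(Cfsg.SU 6 F' 2)).map es.toMonoidHom =
      Subgroup.center ↥(Cfsg.SU 6 K 2) := by
    ext x
    rw [Subgroup.mem_map]
    constructor
    · rintro ⟨y, hy, rfl⟩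
      refine Subgroup.mem_center_iff.2 fun g => ?_
      obtain ⟨k, rfl⟩ := es.surjective g
      show es k * es y = es y * es k
      rw [← map_mul, ← map_mul, Subgroup.mem_center_iff.1 hy k]
    · intro hx
      obtain ⟨y, rfl⟩ := es.surjective x
      refine ⟨y, Subgroup.mem_center_iff.2 fun k => es.injective ?_, rfl⟩
      rw [map_mul, map_mul]
      exact Subgroup.mem_center_iff.1 hx (es k)
  exact ⟨QuotientGroup.congr _ _ es hc⟩

variable {G : Type u} [Group G] {F : Type v} [Field F] [Fintype F] {z : G} {J H₀ : Subgroup G}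
  {π : ↥H₀ →* Cfsg.PSp 2 F}

section half

variable (S : Setup z J H₀ π) {G₀ : Subgroup G}
  (hi : G₀ ⊓ Subgroup.centralizer ({z} : Set G) = H₀)

include hi in
theorem h0_le : H₀ ≤ G₀ := hi ▸ inf_le_left

include S hi in
theorem z_mem_half : z ∈ G₀ := h0_le hi (S.J_le S.z_mem)

include hi in
theorem mem_h0 {a : G} (ha : a ∈ G₀) (hc : a ∈ Subgroup.centralizer ({z} : Set G)) : a ∈ H₀ :=
  hi ▸ ⟨ha, hc⟩

/-- The centraliser in the half, read in `H₀`. -/
def toH0 (hz : z ∈ G₀) (hi : G₀ ⊓ Subgroup.centralizer ({z} : Set G) = H₀) :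
    ↥(Subgroup.centralizer ({(⟨z, hz⟩ : ↥G₀)} : Set ↥G₀)) →* ↥H₀ where
  toFun g := ⟨g.1.1, mem_h0 hi g.1.2 (Subgroup.mem_centralizer_singleton_iff.2
    (congrArg Subtype.val (Subgroup.mem_centralizer_singleton_iff.1 g.2)))⟩
  map_one' := rfl
  map_mul' _ _ := rfl

theorem mem_cent_half (hz : z ∈ G₀) {a : ↥G₀}
    (ha : (a : G) ∈ Subgroup.centralizer ({z} : Set G)) :
    a ∈ Subgroup.centralizer ({(⟨z, hz⟩ : ↥G₀)} : Set ↥G₀) :=
  Subgroup.mem_centralizer_singleton_iff.2
    (Subtype.ext (Subgroup.mem_centralizer_singleton_iff.1 ha))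

theorem of_cent_half (hz : z ∈ G₀) {a : ↥G₀}
    (ha : a ∈ Subgroup.centralizer ({(⟨z, hz⟩ : ↥G₀)} : Set ↥G₀)) :
    (a : G) ∈ Subgroup.centralizer ({z} : Set G) :=
  Subgroup.mem_centralizer_singleton_iff.2
    (congrArg Subtype.val (Subgroup.mem_centralizer_singleton_iff.1 ha))

theorem toH0_bijective (hz : z ∈ G₀) (hi : G₀ ⊓ Subgroup.centralizer ({z} : Set G) = H₀)
    (hle : H₀ ≤ Subgroup.centralizer ({z} : Set G)) : Function.Bijective (toH0 hz hi) :=
  ⟨fun _ _ h => Subtype.ext (Subtype.ext (congrArg (fun x : ↥H₀ => (x : G)) h)),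
    fun h => ⟨⟨⟨h, h0_le hi h.2⟩, mem_cent_half hz (hle h.2)⟩, rfl⟩⟩

include S hi in
/-- The data of the recognition inside the half. -/
theorem base_half :
    Base (G := ↥G₀) ⟨z, z_mem_half S hi⟩ (J.subgroupOf G₀) (π.comp (toH0 (z_mem_half S hi) hi)) := by
  have hJ : ∀ {j : G}, j ∈ J → j ∈ G₀ := fun hj => h0_le hi (S.J_le hj)
  refine ⟨S.card_F, Subtype.ext S.sq, fun h => S.ne_one (congrArg Subtype.val h),
    fun a ha => mem_cent_half _ (S.le_cent (S.J_le ha)), S.z_mem, ?_,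
    fun g hg j hj => S.conj_mem g (of_cent_half _ hg) j hj,
    fun a ha => (S.sq_mem a ha).imp (fun h => Subtype.ext h) (fun h => Subtype.ext h),
    fun a ha b hb => (S.comm_mem a ha b hb).imp (fun h => Subtype.ext h) (fun h => Subtype.ext h),
    fun a ha hc => (S.center a ha fun b hb => congrArg Subtype.val (hc ⟨b, hJ hb⟩ hb).eq).imp
      (fun h => Subtype.ext h) (fun h => Subtype.ext h),
    fun g hg hc => S.self_cent g (of_cent_half _ hg) fun j hj =>
      congrArg Subtype.val (hc ⟨j, hJ hj⟩ hj).eq,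
    S.π_surj.comp (toH0_bijective _ hi S.le_cent).2, fun g => S.π_ker _, ?_⟩
  · rw [Nat.card_congr (Subgroup.subgroupOfEquivOfLe fun j hj => hJ hj).toEquiv, S.card_J]
  · rw [Nat.card_congr (Equiv.ofBijective _ (toH0_bijective (z_mem_half S hi) hi S.le_cent)),
      S.card_H₀]

include S hi in
/-- Fixed dimensions of `H₀` are fixed dimensions in the half. -/
theorem fixed_half {U : Subgroup H₀}
    (hU : Fixed2 (G := ↥H₀) ⟨z, S.J_le S.z_mem⟩ (J.subgroupOf H₀) U) :
    Fixed2 (G := ↥G₀) ⟨z, z_mem_half S hi⟩ (J.subgroupOf G₀)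
      ((U.map H₀.subtype).subgroupOf G₀) := by
  refine ⟨?_, ⟨_, hU.z_mem, rfl⟩, ?_, ?_, ?_⟩
  · rintro x ⟨y, hy, e⟩
    show (x : G) ∈ J
    have e' : (y : G) = x := e
    rw [← e']
    exact hU.le hy
  · rw [Nat.card_congr (Subgroup.subgroupOfEquivOfLe
      ((Subgroup.map_subtype_le U).trans (h0_le hi))).toEquiv,
      ← Nat.card_congr (U.equivMapOfInjective _ H₀.subtype_injective).toEquiv, hU.card]
  · rintro x ⟨y, hy, e⟩ hc
    have e' : (y : G) = x := e
    refine (hU.nondeg y hy fun v hv => Subtype.ext ?_).imp (fun h => Subtype.ext ?_)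
      (fun h => Subtype.ext ?_)
    · have := congrArg Subtype.val
        (hc ⟨(v : G), h0_le hi v.2⟩ ⟨v, hv, rfl⟩).eq
      show (y : G) * v = v * y
      rw [e']
      exact this
    · rw [← e', h]; rfl
    · rw [← e', h]
  · rintro g hg x ⟨y, hy, e⟩
    have e' : (y : G) = x := e
    have hgH : (g : G) ∈ H₀ := mem_h0 hi g.2 (of_cent_half _ hg)
    have hgc : (⟨g, hgH⟩ : ↥H₀) ∈
        Subgroup.centralizer ({(⟨z, S.J_le S.z_mem⟩ : ↥H₀)} : Set ↥H₀) :=
      Subgroup.mem_centralizer_singleton_iff.2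
        (Subtype.ext (Subgroup.mem_centralizer_singleton_iff.1 (S.le_cent hgH)))
    refine (hU.fix _ hgc y hy).imp (fun h => Subtype.ext ?_) (fun h => Subtype.ext ?_)
    · have := congrArg Subtype.val h
      show (g : G) * x * (g : G)⁻¹ = x
      rw [← e']; exact this
    · have := congrArg Subtype.val h
      show (g : G) * x * (g : G)⁻¹ = x * z
      rw [← e']; exact this

include S hi in
/-- The natural coordinates of the half. -/
theorem nat_half {φ : G → V} {ρ : ↥(Subgroup.centralizer ({z} : Set G)) →* Equiv.Perm V}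
    (X : Ctx z J H₀ φ ρ) :
    Nat4 (G := ↥G₀) ⟨z, z_mem_half S hi⟩ (J.subgroupOf G₀) (fun a => φ a)
      (ρ.comp ((Subgroup.inclusion S.le_cent).comp (toH0 (z_mem_half S hi) hi))) := by
  have B := base_half S hi
  refine
    { sq := B.sq
      ne_one := B.ne_one
      le_cent := B.le_cent
      z_mem := B.z_mem
      card_J := B.card_J
      conj_mem := B.conj_mem
      φ_mul := fun a ha b hb => X.φ_mul a ha b hb
      φ_surj := fun v => ?_
      φ_ker := fun a ha => (X.φ_ker a ha).trans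
        ⟨fun h => h.imp (fun e => Subtype.ext e) (fun e => Subtype.ext e),
          fun h => h.imp (congrArg Subtype.val) (congrArg Subtype.val)⟩
      φ_sq := fun a ha => Subtype.ext ?_
      φ_comm := fun a ha b hb => Subtype.ext ?_
      ρ_φ := fun g j hj => X.ρ_φ (Subgroup.inclusion S.le_cent (toH0 (z_mem_half S hi) hi g)) j hj
      ρ_ker := fun g => X.ρ_ker _
      ρ_range := ?_
      card_cent := B.card_cent }
  · obtain ⟨a, ha, hav⟩ := X.φ_surj v
    exact ⟨⟨a, h0_le hi (S.J_le ha)⟩, ha, hav⟩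
  · have := X.φ_sq a ha
    cases hp : qv (φ a) <;> simpa [hp] using this
  · have := X.φ_comm a ha b hb
    cases hp : pol (φ a) (φ b) <;> simpa [hp] using this
  · rw [← X.range₀]
    ext f
    constructor
    · rintro ⟨g, rfl⟩
      exact ⟨_, (toH0 (z_mem_half S hi) hi g).2, rfl⟩
    · rintro ⟨g, hg, rfl⟩
      obtain ⟨g', hg'⟩ := (toH0_bijective (z_mem_half S hi) hi S.le_cent).2 ⟨g, hg⟩
      exact ⟨g', by
        show ρ (Subgroup.inclusion S.le_cent (toH0 _ hi g')) = ρ g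
        rw [hg']; rfl⟩

include S hi in
theorem wcj_half (h : WCJ z J) : WCJ (⟨z, z_mem_half S hi⟩ : ↥G₀) (J.subgroupOf G₀) :=
  fun a ha hc => Subtype.ext (h a ha (G₀.subtype.map_isConj hc))

include S hi in
/-- A half in which `z` is isolated gives the second alternative. -/
theorem sup_of_wc [Finite G] (hidx : G₀.index = 2) (h : WC (⟨z, z_mem_half S hi⟩ : ↥G₀)) :
    Subgroup.centralizer ({z} : Set G) ⊔ Cfsg.oddCore G = ⊤ := by
  have hord : orderOf (⟨z, z_mem_half S hi⟩ : ↥G₀) = 2 := by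
    have : Fact (Nat.Prime 2) := ⟨Nat.prime_two⟩
    exact orderOf_eq_prime (by rw [pow_two]; exact Subtype.ext S.sq)
      fun e => S.ne_one (congrArg Subtype.val e)
  have htop := mul_core_of_wc hord h
  have hn : G₀.Normal := Subgroup.normal_of_index_eq_two hidx
  have hle : G₀ ≤ Subgroup.centralizer ({z} : Set G) ⊔ Cfsg.oddCore G := by
    have hm := congrArg (Subgroup.map G₀.subtype) htop
    rw [Subgroup.map_sup, ← MonoidHom.range_eq_map, Subgroup.range_subtype] at hm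
    conv_lhs => rw [← hm]
    refine sup_le_sup ?_ ?_
    · rintro _ ⟨a, ha, rfl⟩
      exact of_cent_half _ ha
    · show (Cfsg.pPrimeCore 2 ↥G₀).map G₀.subtype ≤ Cfsg.pPrimeCore 2 G
      rw [H1.pPrimeCore_subgroup_map_eq]
      exact inf_le_left
  obtain ⟨o, hoC, hoH⟩ : ∃ o ∈ Subgroup.centralizer ({z} : Set G), o ∉ H₀ := by
    by_contra! hc
    have := Subgroup.card_le_of_le (show Subgroup.centralizer ({z} : Set G) ≤ H₀ from hc)
    rw [S.card_cent, S.card_H₀] at this
    norm_num at this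
  rw [eq_top_iff]
  intro g _
  by_cases hg : g ∈ G₀
  · exact hle hg
  · have : g * o⁻¹ ∈ G₀ := (Subgroup.mul_mem_iff_of_index_two hidx).2
      ⟨fun h' => absurd h' hg, fun h' => absurd (mem_h0 hi (inv_mem_iff.1 h') hoC) hoH⟩
    have := mul_mem (hle this) (Subgroup.mem_sup_left hoC)
    rwa [inv_mul_cancel_right] at this

include S hi in
/-- A simple half has trivial centraliser. -/
theorem cent_eq_bot (hs : IsSimpleGroup ↥G₀) :
    Subgroup.centralizer (G₀ : Set G) = ⊥ := by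
  have hJ : ∀ {j : G}, j ∈ J → j ∈ G₀ := fun hj => h0_le hi (S.J_le hj)
  have hzc : Subgroup.center ↥G₀ = ⊥ := by
    refine (hs.eq_bot_or_eq_top_of_normal _ inferInstance).resolve_right fun htop => ?_
    -- the core would be abelian
    have hab : ∀ a ∈ J, a = 1 ∨ a = z := fun a ha => S.center a ha fun b hb => by
      have hm : (⟨b, hJ hb⟩ : ↥G₀) ∈ Subgroup.center ↥G₀ := htop ▸ Subgroup.mem_top _
      exact congrArg Subtype.val (Subgroup.mem_center_iff.1 hm ⟨a, hJ ha⟩)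
    have hle : (J : Set G).ncard ≤ 2 := by
      refine (Set.ncard_le_ncard (t := {1, z}) (fun a ha => ?_) (Set.toFinite _)).trans
        (Set.ncard_pair S.ne_one.symm).le
      rcases hab a ha with rfl | rfl <;> simp
    rw [← Nat.card_coe_set_eq] at hle
    have hc := S.card_J
    change Nat.card (J : Set G) ≤ 2 at hle
    change Nat.card (J : Set G) = 2 ^ 9 at hc
    omega
  rw [eq_bot_iff]
  intro x hx
  have hxC : x ∈ Subgroup.centralizer ({z} : Set G) :=
    Subgroup.mem_centralizer_singleton_iff.2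
      (Subgroup.mem_centralizer_iff.1 hx z (z_mem_half S hi)).symm
  have hxJ : x ∈ J := S.self_cent x hxC fun j hj =>
    (Subgroup.mem_centralizer_iff.1 hx j (hJ hj)).symm
  have hmem : (⟨x, hJ hxJ⟩ : ↥G₀) ∈ Subgroup.center ↥G₀ := Subgroup.mem_center_iff.2 fun g =>
    Subtype.ext (Subgroup.mem_centralizer_iff.1 hx g g.2)
  rw [hzc, Subgroup.mem_bot] at hmem
  rw [Subgroup.mem_bot]
  exact congrArg Subtype.val hmem

end half

/-- The statement of S3231 from the parts. -/
theorem of_parts (hX : FixedIndexStmt.{u, v}) [Finite G]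
    (hF : Fintype.card F = 3)
    {K : Type w} [Field K] [Fintype K] (hK : Fintype.card K = 4) (z : G) (hz : orderOf z = 2)
    (hJ : Cfsg.IsExtraspecial 2 ↥(Cfsg.pCore 2 ↥(Subgroup.centralizer ({z} : Set G))))
    (hJc : Nat.card ↥(Cfsg.pCore 2 ↥(Subgroup.centralizer ({z} : Set G))) = 2 ^ 9)
    (hCJ : Subgroup.centralizer ((Cfsg.pCore 2 ↥(Subgroup.centralizer ({z} : Set G))) :
      Set ↥(Subgroup.centralizer ({z} : Set G))) ≤
        Cfsg.pCore 2 ↥(Subgroup.centralizer ({z} : Set G)))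
    [hJn : (Cfsg.pCore 2 ↥(Subgroup.centralizer ({z} : Set G))).Normal]
    (e : (↥(Subgroup.centralizer ({z} : Set G)) ⧸
      Cfsg.pCore 2 ↥(Subgroup.centralizer ({z} : Set G))) ≃* MulAut (Cfsg.PSp 2 F)) :
    (∃ G₀ : Subgroup G, G₀.index = 2 ∧ Nonempty (↥G₀ ≃* Cfsg.PSU 6 K 2) ∧
        Subgroup.centralizer (G₀ : Set G) = ⊥) ∨
      Subgroup.centralizer ({z} : Set G) ⊔ Cfsg.oddCore G = ⊤ := by
  obtain ⟨H₀, π, S⟩ := exists_setup z hz hF hJ hJc hCJ e
  rcases ext_dichotomy S with ⟨φ, ρ, X, σ, γ, hp, t, c, ht, hc⟩ | ⟨U, hU⟩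
  · have hw := H33.U6E.wcjTwo X
    obtain ⟨G₀, hidx, hi⟩ := H39.U6E.indexTwo X hw σ γ hp t c ht hc fun x hx =>
      H33.U6E.ckill X hw σ γ hp t c x ht hc hx
    by_cases hwc : WC (⟨z, z_mem_half S hi⟩ : ↥G₀)
    · exact Or.inr (sup_of_wc S hi hidx hwc)
    · obtain ⟨pt, hL⟩ := H38.U6C.locStmt (nat_half S hi X) (wcj_half S hi hw) hwc
      obtain ⟨hs, F', f1, f2, hF', ⟨iso⟩⟩ := H24.U6.recognition hL
      obtain ⟨iso'⟩ := psu_congr hF' hK
      exact Or.inl ⟨G₀, hidx, ⟨iso.trans iso'⟩, cent_eq_bot S hi hs⟩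
  · obtain ⟨G₀, hidx, hi⟩ := hX S U hU
    have hb := base_half S hi
    have hf := fixed_half S hi hU
    exact Or.inr (sup_of_wc S hi hidx
      (H55.U6C.wc_of_fixed2 hb (H55.U6C.Fx.wcj_fixed hb hf) hf))

end H2.U6E
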