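import Cfsg.Agent.H2.U6E.Basic
import Cfsg.Agent.H50.U6C.Model

/-!
Semilinear maps of the model: the commutant of the transvections, the semilinear involution with
singular fixed space, and the splitting of the normaliser of the unitary group into linear and
semilinear isometries.
-/

set_option autoImplicit false
set_option maxRecDepth 100000

namespace H2.U6E

open H38.U6C H50.U6C

theorem fconj_fconj {x : ℕ} (hx : x < 4) : fconj (fconj x) = x :=
  (show ∀ y < 4, fconj (fconj y) = y by decide) x hx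

theorem isLin_of_isom {g : Equiv.Perm V} (hg : g ∈ isom) : IsLin g :=
  ⟨hg.1, fun c a => isom_smul hg c.2 a, isom_herm hg⟩

theorem isom_of_isLin {g : Equiv.Perm V} (hg : IsLin g) : g ∈ isom :=
  ⟨hg.add, fun a => hg.smul 2 a, fun a => by simp [qv, hg.herm_eq]⟩

theorem IsLin.mul {f g : Equiv.Perm V} (hf : IsLin f) (hg : IsLin g) : IsLin (f * g) :=
  isLin_of_isom (mul_mem (isom_of_isLin hf) (isom_of_isLin hg))

theorem IsAnti.mul_lin {f g : Equiv.Perm V} (hf : IsAnti f) (hg : IsLin g) : IsAnti (f * g) :=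
  ⟨fun a b => by simp only [Equiv.Perm.mul_apply, hg.add, hf.add],
    fun c a => by simp only [Equiv.Perm.mul_apply, hg.smul, hf.smul],
    fun a b => by simp only [Equiv.Perm.mul_apply, hf.herm_eq, hg.herm_eq]⟩

theorem IsLin.mul_anti {f g : Equiv.Perm V} (hf : IsLin f) (hg : IsAnti g) : IsAnti (f * g) := by
  refine ⟨fun a b => by simp only [Equiv.Perm.mul_apply, hg.add, hf.add], fun c a => ?_,
    fun a b => by simp only [Equiv.Perm.mul_apply, hf.herm_eq, hg.herm_eq]⟩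
  simp only [Equiv.Perm.mul_apply, hg.smul]
  exact hf.smul ⟨fconj c, fconj_lt _⟩ _

theorem IsAnti.mul {f g : Equiv.Perm V} (hf : IsAnti f) (hg : IsAnti g) : IsLin (f * g) := by
  refine ⟨fun a b => by simp only [Equiv.Perm.mul_apply, hg.add, hf.add], fun c a => ?_,
    fun a b => ?_⟩
  · simp only [Equiv.Perm.mul_apply, hg.smul]
    refine (hf.smul ⟨fconj c, fconj_lt _⟩ _).trans ?_
    show smul4 (fconj (fconj c)) _ = _
    rw [fconj_fconj c.2]
  · simp only [Equiv.Perm.mul_apply, hf.herm_eq, hg.herm_eq]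
    exact fconj_fconj (herm_lt a b)

/-- Coordinatewise conjugation followed by exchanging the coordinates in pairs. -/
def sigFun (a : V) : V :=
  ⟨(fconj (coord a 1) + 4 * fconj (coord a 0) + 16 * fconj (coord a 3) + 64 * fconj (coord a 2)) % 256,
    Nat.mod_lt _ (by norm_num)⟩

theorem sigFun_invol : ∀ a, sigFun (sigFun a) = a := by decide +kernel

/-- The semilinear involution of the model. -/
def sigC : Equiv.Perm V := ⟨sigFun, sigFun, sigFun_invol, sigFun_invol⟩

theorem sigC_anti : IsAnti sigC := by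
  refine ⟨?_, ?_, ?_⟩
  · intro a b
    refine coord_ext fun i hi => ?_
    have hc : ∀ x : V, ∀ i : Fin 4, coord (sigC x) i = fconj (coord x (![1, 0, 3, 2] i : ℕ)) := by
      decide +kernel
    rw [coord_vadd, hc _ ⟨i, hi⟩, hc _ ⟨i, hi⟩, hc _ ⟨i, hi⟩, coord_vadd]
    exact (fconj_aux _ (coord_lt a _) _ (coord_lt b _)).1
  · show ∀ c : Fin 4, ∀ a, sigFun (smul4 c a) = smul4 (fconj c) (sigFun a)
    decide +kernel
  · intro a b
    have hc : ∀ x : V, ∀ i : Fin 4, coord (sigC x) i = fconj (coord x (![1, 0, 3, 2] i : ℕ)) := by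
      decide +kernel
    simp only [herm_eq, hterm]
    rw [hc a ⟨0, by norm_num⟩, hc a ⟨1, by norm_num⟩, hc a ⟨2, by norm_num⟩, hc a ⟨3, by norm_num⟩,
      hc b ⟨0, by norm_num⟩, hc b ⟨1, by norm_num⟩, hc b ⟨2, by norm_num⟩, hc b ⟨3, by norm_num⟩]
    have key : ∀ x < 4, ∀ y < 4, fmul (fconj (fconj x)) (fconj y) = fconj (fmul (fconj x) y) := by
      decide
    have hx : ∀ x < 4, ∀ y < 4, fconj (x ^^^ y) = fconj x ^^^ fconj y := fun x h y h' =>
      (fconj_aux x h y h').1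
    show (fmul (fconj (fconj (coord a 1))) (fconj (coord b 1)) ^^^
        fmul (fconj (fconj (coord a 0))) (fconj (coord b 0))) ^^^
      (fmul (fconj (fconj (coord a 3))) (fconj (coord b 3)) ^^^
        fmul (fconj (fconj (coord a 2))) (fconj (coord b 2))) = _
    rw [key _ (coord_lt a _) _ (coord_lt b _), key _ (coord_lt a _) _ (coord_lt b _),
      key _ (coord_lt a _) _ (coord_lt b _), key _ (coord_lt a _) _ (coord_lt b _),
      hx _ (xor_lt_four (fmul_lt _ _) (fmul_lt _ _)) _ (xor_lt_four (fmul_lt _ _) (fmul_lt _ _)),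
      hx _ (fmul_lt _ _) _ (fmul_lt _ _), hx _ (fmul_lt _ _) _ (fmul_lt _ _)]
    ac_rfl

/-- The element of order five centralising `sigC`. -/
def gam : Equiv.Perm V := tv 2 * tv 16 * tv 35 * tv 15

theorem gam_mem : gam ∈ uGroup :=
  mul_mem (mul_mem (mul_mem (Subgroup.subset_closure ⟨2, rfl⟩) (Subgroup.subset_closure ⟨16, rfl⟩))
    (Subgroup.subset_closure ⟨35, rfl⟩)) (Subgroup.subset_closure ⟨15, rfl⟩)

theorem outPair_aux : (∀ k : Fin 3, ∀ a, (omegaPerm ^ k.val * sigC) a = a →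
      qv a = false ∧ (gam a = a → a = 0)) ∧
    (∀ k : Fin 3, ∀ a, (omegaPerm ^ k.val * sigC) ((omegaPerm ^ k.val * sigC) a) = a) ∧
    (∀ a, gam (gam (gam (gam (gam a)))) = a) ∧ ∀ a, sigC (gam a) = gam (sigC a) := by
  decide +kernel

/-- The pairs of the three scalar multiples of `sigC`. -/
theorem outPair (k : Fin 3) : OutPair (omegaPerm ^ k.val * sigC) gam := by
  obtain ⟨h1, h2, h3, h4⟩ := outPair_aux
  have hg : gam ∈ isom := uGroup_le_isom gam_mem
  refine ⟨(isLin_of_isom (pow_mem omegaPerm_mem _)).mul_anti sigC_anti, Equiv.ext (h2 k),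
    fun a ha => (h1 k a ha).1, isLin_of_isom hg, Equiv.ext h3, ?_, fun a ha hga => (h1 k a ha).2 hga⟩
  rw [mul_assoc, show sigC * gam = gam * sigC from Equiv.ext h4, ← mul_assoc, ← mul_assoc]
  congr 1
  exact ((show Commute gam omegaPerm from omegaPerm_comm hg).pow_right _).eq.symm

/-! ### the commutant of the transvections -/

theorem commutant_aux :
    (∀ c d : Fin 4, ∀ i : Fin 45, smul4 c (pnt i) = smul4 d (pnt i) → c = d) ∧
    herm (pnt 0) (pnt 1) = 3 ∧ herm (pnt 1) (pnt 3) = 3 ∧ herm (pnt 3) (pnt 0) = 1 ∧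
    herm (pnt 0) (pnt 9) = 1 ∧
    ∀ a : V, ∃ c₀ c₁ c₂ c₃ : Fin 4, a = vadd (vadd (smul4 c₀ (pnt 0)) (smul4 c₁ (pnt 1)))
      (vadd (smul4 c₂ (pnt 3)) (smul4 c₃ (pnt 9))) := by
  decide +kernel

/-- An additive map commuting with all transvections is a scalar. -/
theorem commutant {f : Equiv.Perm V} (hadd : ∀ a b, f (vadd a b) = vadd (f a) (f b))
    (hcomm : ∀ i, f * tv i = tv i * f) : ∃ c : Fin 4, ∀ a, f a = smul4 c a := by
  have hkey : ∀ i a, f (smul4 (herm (pnt i) a) (pnt i)) = smul4 (herm (pnt i) (f a)) (pnt i) := by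
    intro i a
    have h := DFunLike.congr_fun (hcomm i) a
    simp only [Equiv.Perm.mul_apply, tv_apply, hadd] at h
    have h' := congrArg (fun x => vadd (f a) x) h
    simpa only [← vadd_assoc, vadd_self, vadd_comm (0 : V), vadd_zero'] using h'
  -- the action on each point
  have hex : ∀ i : Fin 45, ∀ c : Fin 4, ∃ d : Fin 4, f (smul4 c (pnt i)) = smul4 d (pnt i) := by
    intro i c
    obtain ⟨a, ha⟩ := (show ∀ i : Fin 45, ∀ c : Fin 4, ∃ a : V, herm (pnt i) a = c.val by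
      decide +kernel) i c
    exact ⟨⟨_, herm_lt (pnt i) (f a)⟩, by rw [← ha]; exact hkey i a⟩
  choose ν hν using hex
  have hrel : ∀ (i j : Fin 45) (c : Fin 4),
      (ν i ⟨fmul c (herm (pnt i) (pnt j)), fmul_lt _ _⟩).val =
        fmul (ν j c).val (herm (pnt i) (pnt j)) := by
    intro i j c
    have h := hkey i (smul4 c (pnt j))
    rw [hν j c, herm_smul_right c.2, herm_smul_right (ν j c).2] at h
    have h2 := hν i ⟨fmul c (herm (pnt i) (pnt j)), fmul_lt _ _⟩
    rw [h] at h2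
    exact (congrArg Fin.val (commutant_aux.1 ⟨_, fmul_lt _ _⟩ _ i h2)).symm
  obtain ⟨-, h01, h13, h30, h09, hspan⟩ := commutant_aux
  -- around the triangle multiplication by `ω` is respected
  have t0 : ∀ c : Fin 4, (ν 0 ⟨fmul c 2, fmul_lt _ _⟩).val = fmul (ν 0 c).val 2 := by
    intro c
    have a1 := hrel 3 0 c
    have a2 := hrel 1 3 (⟨fmul c (herm (pnt 3) (pnt 0)), fmul_lt _ _⟩)
    have a3 := hrel 0 1 ⟨fmul (fmul c (herm (pnt 3) (pnt 0))) (herm (pnt 1) (pnt 3)), fmul_lt _ _⟩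
    rw [a2, a1] at a3
    simp only [h01, h13, h30] at a3
    have e : ∀ x < 4, fmul (fmul (fmul x 1) 3) 3 = fmul x 2 := by decide
    simp only [e _ c.2, e _ (ν 0 c).2] at a3
    exact a3
  refine ⟨ν 0 1, ?_⟩
  have hz : ν 0 0 = 0 := by
    have f0 : f 0 = 0 := by
      have := hadd 0 0
      rwa [vadd_self, vadd_self] at this
    refine commutant_aux.1 _ _ 0 ?_
    rw [← hν 0 0, show smul4 ((0 : Fin 4) : ℕ) (pnt 0) = 0 from smul4_zero_left _, f0]
  have h0 : ∀ c : Fin 4, (ν 0 c).val = fmul (ν 0 1).val c := by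
    have b2 := t0 1
    have b3 := t0 2
    have q1 : (⟨fmul ((1 : Fin 4) : ℕ) 2, fmul_lt _ _⟩ : Fin 4) = 2 := by decide
    have q2 : (⟨fmul ((2 : Fin 4) : ℕ) 2, fmul_lt _ _⟩ : Fin 4) = 3 := by decide
    rw [q1] at b2
    rw [q2, b2] at b3
    intro c
    fin_cases c
    · show (ν 0 0).val = _
      rw [hz]
      exact ((show ∀ x < 4, fmul x 0 = 0 by decide) _ (ν 0 1).2).symm
    · exact ((show ∀ x < 4, fmul x 1 = x by decide) _ (ν 0 1).2).symm
    · exact b2
    · exact b3.trans ((show ∀ x < 4, fmul (fmul x 2) 2 = fmul x 3 by decide) _ (ν 0 1).2)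
  have hlin : ∀ j : Fin 45, herm (pnt 0) (pnt j) ≠ 0 →
      ∀ c : Fin 4, (ν j c).val = fmul (ν 0 1).val c := by
    intro j hj c
    have h := hrel 0 j c
    rw [h0] at h
    exact (show ∀ a b c l : Fin 4, l.val ≠ 0 → fmul a (fmul c l) = fmul b l →
      b.val = fmul a c by decide +kernel) (ν 0 1) (ν j c) c ⟨_, herm_lt _ _⟩ hj h
  intro a
  obtain ⟨c₀, c₁, c₂, c₃, rfl⟩ := hspan a
  have e0 : (ν 0 c₀).val = _ := h0 c₀
  have e1 := hlin 1 (by rw [h01]; norm_num) c₁
  have e2 := hlin 3 (by rw [herm_conj (pnt 3), h30]; decide) c₂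
  have e3 := hlin 9 (by rw [h09]; norm_num) c₃
  rw [hadd, hadd, hadd, hν, hν, hν, hν, e0, e1, e2, e3,
    smul4_vadd (ν 0 1).2, smul4_vadd (ν 0 1).2, smul4_vadd (ν 0 1).2,
    smul4_smul4 (ν 0 1).2 c₀.2, smul4_smul4 (ν 0 1).2 c₁.2, smul4_smul4 (ν 0 1).2 c₂.2,
    smul4_smul4 (ν 0 1).2 c₃.2]

end H2.U6E
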