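import Cfsg.Agent.H2.U6E.Setup
import Cfsg.Agent.H2.U6E.Semi
import Cfsg.Agent.H50.U6C.Main

/-!
The natural case read on the whole centraliser: the module structure extends from `H₀`, the elements
outside it acting semilinearly, and a pair of outer elements over a model pair exists.
-/

set_option autoImplicit false
set_option maxRecDepth 100000

namespace H2.U6E

open H38.U6C H50.U6C

theorem pol_vadd_left (a b c : V) : pol (vadd a b) c = xor (pol a c) (pol b c) := by
  simp only [pol, herm_vadd_left]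
  exact (show ∀ x < 4, ∀ y < 4, decide (2 ≤ x ^^^ y) = xor (decide (2 ≤ x)) (decide (2 ≤ y)) by
    decide) _ (herm_lt a c) _ (herm_lt b c)

/-- The additive basis of the model. -/
def bas (i : Fin 8) : V := ⟨2 ^ i.val % 256, Nat.mod_lt _ (by norm_num)⟩

theorem bas_aux : (∀ u : V, (∀ i, pol u (bas i) = false) → u = 0) ∧
    ∀ i : Fin 4, ∀ c : Fin 4, ∃ j k : Fin 8,
      smul4 c (![1, 4, 16, 64] i) = 0 ∨ smul4 c (![1, 4, 16, 64] i) = bas j ∨
        smul4 c (![1, 4, 16, 64] i) = vadd (bas j) (bas k) := by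
  decide +kernel

theorem exists_pol (t : Fin 8 → Bool) : ∃ u : V, ∀ i, pol u (bas i) = t i := by
  have hinj : Function.Injective fun (u : V) (i : Fin 8) => pol u (bas i) := fun a b h => by
    have h0 : vadd a b = 0 := bas_aux.1 _ fun i => by
      rw [pol_vadd_left, show pol a (bas i) = pol b (bas i) from congrFun h i, Bool.xor_self]
    rw [← vadd_zero' a, ← vadd_self b, ← vadd_assoc, h0, vadd_comm, vadd_zero']
  obtain ⟨u, hu⟩ := (hinj.bijective_of_nat_card_le (by simp)).2 t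
  exact ⟨u, congrFun hu⟩

/-- A set of vectors closed under addition containing the basis is everything. -/
theorem closed_eq_univ (P : V → Prop) (h0 : P 0) (hadd : ∀ a b, P a → P b → P (vadd a b))
    (hb : ∀ i, P (bas i)) (v : V) : P v := by
  have hs : ∀ i : Fin 4, ∀ c : Fin 4, P (smul4 c (![1, 4, 16, 64] i)) := by
    intro i c
    obtain ⟨j, k, h | h | h⟩ := bas_aux.2 i c <;> rw [h]
    exacts [h0, hb j, hadd _ _ (hb j) (hb k)]
  rw [eq_basis v]
  exact hadd _ _ (hadd _ _ (hs 0 ⟨_, coord_lt v 0⟩) (hs 1 ⟨_, coord_lt v 1⟩))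
    (hadd _ _ (hs 2 ⟨_, coord_lt v 2⟩) (hs 3 ⟨_, coord_lt v 3⟩))

theorem sigC_mul_self : sigC * sigC = 1 := Equiv.ext sigFun_invol

theorem IsAnti.qv_eq {f : Equiv.Perm V} (hf : IsAnti f) (a : V) : qv (f a) = qv a := by
  simp only [qv, hf.herm_eq]
  exact (show ∀ x < 2, (fconj x == 1) = (x == 1) by decide) _ (herm_self_lt a)

/-- An isometry is a transvection product times a scalar, if these products form a group of the
right order without scalars. -/
theorem isom_decomp (hcard : Nat.card uGroup = 25920) (hω : omegaPerm ∉ uGroup) {f : Equiv.Perm V}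
    (hf : f ∈ isom) : ∃ u ∈ uGroup, ∃ k : Fin 3, f = u * omegaPerm ^ k.val := by
  have hpow : ∀ k : ℕ, omegaPerm ^ k ∈ uGroup → 3 ∣ k := by
    intro k hk
    rw [← Nat.mod_add_div k 3, pow_add, pow_mul, omegaPerm_cube, one_pow, mul_one] at hk
    rcases (show k % 3 = 0 ∨ k % 3 = 1 ∨ k % 3 = 2 by omega) with h | h | h
    · omega
    · rw [h, pow_one] at hk; exact absurd hk hω
    · refine absurd ?_ hω
      have := mul_mem hk hk
      rw [h, ← pow_add] at this
      rwa [show (2 + 2 : ℕ) = 3 + 1 from rfl, pow_succ, omegaPerm_cube, one_mul] at this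
  let F : uGroup × Fin 3 → isom := fun x =>
    ⟨(x.1 : Equiv.Perm V) * omegaPerm ^ x.2.val,
      mul_mem (uGroup_le_isom x.1.2) (pow_mem omegaPerm_mem _)⟩
  have hF : Function.Injective F := by
    rintro ⟨p, k⟩ ⟨q, l⟩ h
    have h' : (p : Equiv.Perm V) * omegaPerm ^ k.val = q * omegaPerm ^ l.val :=
      congrArg Subtype.val h
    have key : ∀ (p q : uGroup) (k l : Fin 3), k.val ≤ l.val →
        (p : Equiv.Perm V) * omegaPerm ^ k.val = q * omegaPerm ^ l.val → k = l := by
      intro p q k l hle e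
      have e' : (q : Equiv.Perm V)⁻¹ * p = omegaPerm ^ (l.val - k.val) := by
        rw [inv_mul_eq_iff_eq_mul]
        refine mul_right_cancel (b := omegaPerm ^ k.val) ?_
        rw [e, mul_assoc, ← pow_add, Nat.sub_add_cancel hle]
      have := hpow _ (e' ▸ mul_mem (inv_mem q.2) p.2)
      exact Fin.ext (by omega)
    have hkl : k = l := (le_total k.val l.val).elim (fun hle => key p q k l hle h')
      (fun hle => (key q p l k hle h'.symm).symm)
    subst hkl
    rw [Subtype.ext (mul_right_cancel h')]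
  obtain ⟨⟨u, k⟩, h⟩ := (hF.bijective_of_nat_card_le (by
    rw [Nat.card_prod, hcard, Nat.card_fin]; exact card_isom_le)).2 ⟨f, hf⟩
  exact ⟨u, u.2, k, (congrArg Subtype.val h).symm⟩

universe u v

/-- Either the whole centraliser reads semilinearly on the natural module, with a pair over a model
pair, or `H₀` has two fixed dimensions. -/
theorem ext_dichotomy {G : Type u} [Group G] [Finite G] {F : Type v} [Field F] [Fintype F] {z : G}
    {J H₀ : Subgroup G} {π : ↥H₀ →* Cfsg.PSp 2 F} (S : Setup z J H₀ π) :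
    (∃ (φ : G → V) (ρ : ↥(Subgroup.centralizer ({z} : Set G)) →* Equiv.Perm V),
        Ctx z J H₀ φ ρ ∧ ∃ σ γ : Equiv.Perm V, OutPair σ γ ∧
          ∃ t c : ↥(Subgroup.centralizer ({z} : Set G)), ρ t = σ ∧ ρ c = γ) ∨
      ∃ U : Subgroup H₀, Fixed2 (G := ↥H₀) ⟨z, S.J_le S.z_mem⟩ (J.subgroupOf H₀) U := by
  classical
  rcases module_dichotomy S.base with ⟨φ₀, ρ₀, N⟩ | h
  swap
  · exact Or.inr h
  left
  set C := Subgroup.centralizer ({z} : Set G) with hC
  have hzC : ∀ g : C, z * (g : G) = g * z := fun g => Subgroup.mem_centralizer_iff.1 g.2 z rfl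
  let φ : G → V := fun g => if h : g ∈ H₀ then φ₀ ⟨g, h⟩ else 0
  have hφ : ∀ (a : G) (ha : a ∈ J), φ a = φ₀ ⟨a, S.J_le ha⟩ := fun a ha => dif_pos _
  have φ_mul : ∀ a ∈ J, ∀ b ∈ J, φ (a * b) = vadd (φ a) (φ b) := fun a ha b hb => by
    rw [hφ _ (mul_mem ha hb), hφ a ha, hφ b hb]
    exact N.φ_mul ⟨a, S.J_le ha⟩ ha ⟨b, S.J_le hb⟩ hb
  have φ_surj : ∀ v, ∃ a ∈ J, φ a = v := fun v => by
    obtain ⟨⟨a, ha'⟩, ha, rfl⟩ := N.φ_surj v
    exact ⟨a, ha, hφ a ha⟩
  have φ_ker : ∀ a ∈ J, (φ a = 0 ↔ a = 1 ∨ a = z) := fun a ha => by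
    rw [hφ a ha, N.φ_ker ⟨a, S.J_le ha⟩ ha]
    exact ⟨fun h => h.imp (congrArg Subtype.val) (congrArg Subtype.val),
      fun h => h.imp (fun e => Subtype.ext e) (fun e => Subtype.ext e)⟩
  have φ_sq : ∀ a ∈ J, a * a = if qv (φ a) then z else 1 := fun a ha => by
    have := congrArg Subtype.val (N.φ_sq ⟨a, S.J_le ha⟩ ha)
    rw [hφ a ha]
    cases hq : qv (φ₀ ⟨a, S.J_le ha⟩) <;> simpa [hq] using this
  have φ_comm : ∀ a ∈ J, ∀ b ∈ J, a * b = b * a * if pol (φ a) (φ b) then z else 1 :=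
    fun a ha b hb => by
      have := congrArg Subtype.val (N.φ_comm ⟨a, S.J_le ha⟩ ha ⟨b, S.J_le hb⟩ hb)
      rw [hφ a ha, hφ b hb]
      cases hq : pol (φ₀ ⟨a, S.J_le ha⟩) (φ₀ ⟨b, S.J_le hb⟩) <;> simpa [hq] using this
  have φ_one : φ 1 = 0 := (φ_ker 1 (one_mem J)).2 (Or.inl rfl)
  have φ_z : φ z = 0 := (φ_ker z S.z_mem).2 (Or.inr rfl)
  have φ_inv : ∀ a ∈ J, φ a⁻¹ = φ a := fun a ha => by
    have h := φ_mul _ (inv_mem ha) _ ha
    rw [inv_mul_cancel, φ_one] at h
    rw [← vadd_zero' (φ a⁻¹), ← vadd_self (φ a), ← vadd_assoc, ← h, vadd_comm, vadd_zero']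
  have φ_eq : ∀ a ∈ J, ∀ b ∈ J, φ a = φ b → a = b ∨ a = b * z := fun a ha b hb h => by
    have h0 : φ (b⁻¹ * a) = 0 := by rw [φ_mul _ (inv_mem hb) _ ha, φ_inv b hb, h, vadd_self]
    rcases (φ_ker _ (mul_mem (inv_mem hb) ha)).1 h0 with e | e
    · exact Or.inl (inv_mul_eq_one.1 e).symm
    · exact Or.inr (inv_mul_eq_iff_eq_mul.1 e)
  choose lift hlift hlφ using φ_surj
  have conj_φ : ∀ g : C, ∀ a ∈ J, ∀ b ∈ J, φ a = φ b →
      φ ((g : G) * a * (g : G)⁻¹) = φ ((g : G) * b * (g : G)⁻¹) := by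
    intro g a ha b hb h
    rcases φ_eq a ha b hb h with rfl | rfl
    · rfl
    · rw [show (g : G) * (b * z) * (g : G)⁻¹ = (g : G) * b * (g : G)⁻¹ * z by
          rw [show (g : G) * (b * z) * (g : G)⁻¹ = (g : G) * b * (z * (g : G)⁻¹) by group,
            show z * (g : G)⁻¹ = (g : G)⁻¹ * z by exact hzC g⁻¹, ← mul_assoc],
        φ_mul _ (S.conj_mem g g.2 b hb) _ S.z_mem, φ_z, vadd_zero']
  let act : C → V → V := fun g v => φ ((g : G) * lift v * (g : G)⁻¹)
  have act_φ : ∀ (g : C) (j : G), j ∈ J → φ ((g : G) * j * (g : G)⁻¹) = act g (φ j) :=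
    fun g j hj => conj_φ g j hj _ (hlift _) (hlφ _).symm
  have act_mul : ∀ g h : C, ∀ v, act (g * h) v = act g (act h v) := fun g h v => by
    show φ (((g * h : C) : G) * lift v * ((g * h : C) : G)⁻¹) =
      act g (φ ((h : G) * lift v * (h : G)⁻¹))
    rw [← act_φ g _ (S.conj_mem h h.2 _ (hlift v))]
    congr 1
    rw [Subgroup.coe_mul]
    group
  have act_one : ∀ v, act 1 v = v := fun v => by
    show φ ((1 : C) * lift v * ((1 : C) : G)⁻¹) = v
    simp [hlφ]
  let ρ : C →* Equiv.Perm V :=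
    { toFun := fun g => ⟨act g, act g⁻¹, fun v => by rw [← act_mul, inv_mul_cancel, act_one],
        fun v => by rw [← act_mul, mul_inv_cancel, act_one]⟩
      map_one' := Equiv.ext act_one
      map_mul' := fun g h => Equiv.ext (act_mul g h) }
  have ρ_φ : ∀ (g : C) (j : G), j ∈ J → φ ((g : G) * j * (g : G)⁻¹) = ρ g (φ j) := act_φ
  have ρ_add : ∀ (g : C) a b, ρ g (vadd a b) = vadd (ρ g a) (ρ g b) := fun g a b => by
    rw [← hlφ a, ← hlφ b, ← φ_mul _ (hlift a) _ (hlift b),
      ← ρ_φ g _ (mul_mem (hlift a) (hlift b)), ← ρ_φ g _ (hlift a), ← ρ_φ g _ (hlift b),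
      ← φ_mul _ (S.conj_mem g g.2 _ (hlift a)) _ (S.conj_mem g g.2 _ (hlift b))]
    congr 1
    group
  have ρ_qv : ∀ (g : C) a, qv (ρ g a) = qv a := fun g a => by
    have h1 := φ_sq _ (S.conj_mem g g.2 _ (hlift a))
    have h2 := φ_sq _ (hlift a)
    rw [show (g : G) * lift a * (g : G)⁻¹ * ((g : G) * lift a * (g : G)⁻¹) =
      (g : G) * (lift a * lift a) * (g : G)⁻¹ by group, h2, ρ_φ g _ (hlift a), hlφ] at h1
    cases hq : qv a <;> cases hq' : qv (ρ g a) <;> simp [hq, hq', ← hzC g] at h1 ⊢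
    · exact S.ne_one h1.symm
    · exact S.ne_one h1
  -- on the subgroup of index two
  have hall : ∀ x : H₀, x ∈ Subgroup.centralizer ({(⟨z, S.J_le S.z_mem⟩ : ↥H₀)} : Set ↥H₀) :=
    fun x => Subgroup.mem_centralizer_iff.2 fun y hy => by
      rw [Set.mem_singleton_iff.1 hy]
      exact Subtype.ext (Subgroup.mem_centralizer_iff.1 (S.le_cent x.2) z rfl)
  have ρ₀_eq : ∀ (g : C) (hg : (g : G) ∈ H₀), ρ g = ρ₀ ⟨⟨g, hg⟩, hall _⟩ := fun g hg =>
    Equiv.ext fun v => by
      obtain ⟨⟨j, hj'⟩, hj, rfl⟩ := N.φ_surj v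
      rw [← N.ρ_φ _ _ hj, ← hφ j hj, ← ρ_φ g j hj, hφ _ (S.conj_mem g g.2 j hj)]
      rfl
  have range₀ : (H₀.subgroupOf C).map ρ = uGroup := by
    rw [← N.ρ_range]
    ext f
    constructor
    · rintro ⟨g, hg, rfl⟩
      exact ⟨_, (ρ₀_eq g hg).symm⟩
    · rintro ⟨⟨⟨x, hx⟩, hx'⟩, rfl⟩
      exact ⟨⟨x, S.le_cent hx⟩, hx, ρ₀_eq _ hx⟩
  have mem_u : ∀ g : C, (g : G) ∈ H₀ → ρ g ∈ uGroup := fun g hg => range₀ ▸ ⟨g, hg, rfl⟩
  have ρ_ker : ∀ g : C, ρ g = 1 ↔ (g : G) ∈ J := by
    intro g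
    constructor
    · intro h
      have hfix : ∀ j ∈ J, (g : G) * j * (g : G)⁻¹ = j ∨ (g : G) * j * (g : G)⁻¹ = j * z :=
        fun j hj => φ_eq _ (S.conj_mem g g.2 j hj) j hj (by rw [ρ_φ g j hj, h]; rfl)
      obtain ⟨u, hu⟩ := exists_pol fun i =>
        decide ((g : G) * lift (bas i) * (g : G)⁻¹ ≠ lift (bas i))
      set a := lift u with ha
      set k := a⁻¹ * (g : G) with hk
      have hkb : ∀ i, Commute k (lift (bas i)) := by
        intro i
        set b := lift (bas i) with hb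
        have hua : φ a = u := hlφ u
        have hub : φ b = bas i := hlφ _
        have hc := φ_comm a (hlift u) b (hlift _)
        rw [hua, hub, hu i] at hc
        have hconj : (g : G) * b * (g : G)⁻¹ = a * b * a⁻¹ := by
          rw [eq_mul_inv_iff_mul_eq]
          rcases hfix b (hlift _) with e | e
          · rw [decide_eq_false (not_not.2 e), if_neg Bool.false_ne_true, mul_one] at hc
            rw [e, hc]
          · have hne : (g : G) * b * (g : G)⁻¹ ≠ b := fun h => S.ne_one (by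
              rw [h] at e
              simpa using e.symm)
            rw [decide_eq_true hne, if_pos rfl] at hc
            rw [e, hc, mul_assoc, mul_assoc]
            exact congrArg (b * ·) (hzC ⟨a, S.le_cent (S.J_le (hlift u))⟩)
        show k * b = b * k
        have h2 : (g : G) * b = a * b * a⁻¹ * g := mul_inv_eq_iff_eq_mul.1 hconj
        rw [hk, mul_assoc, h2]
        group
      have hkC : k ∈ C := mul_mem (inv_mem (S.le_cent (S.J_le (hlift u)))) g.2
      have hkz : Commute k z := (hzC ⟨k, hkC⟩).symm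
      have hkJ : ∀ j ∈ J, Commute k j := by
        intro j hj
        obtain ⟨b, hb, hkb', hbφ⟩ : ∃ b ∈ J, Commute k b ∧ φ b = φ j :=
          closed_eq_univ (fun v => ∃ b ∈ J, Commute k b ∧ φ b = v)
            ⟨1, one_mem J, Commute.one_right k, φ_one⟩
            (fun x y ⟨p, hp, hkp, hpx⟩ ⟨q, hq, hkq, hqy⟩ =>
              ⟨p * q, mul_mem hp hq, hkp.mul_right hkq, by rw [φ_mul p hp q hq, hpx, hqy]⟩)
            (fun i => ⟨_, hlift _, hkb i, hlφ _⟩) (φ j)
        rcases φ_eq j hj b hb hbφ.symm with rfl | rfl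
        exacts [hkb', hkb'.mul_right hkz]
      have := mul_mem (hlift u) (S.self_cent k hkC hkJ)
      rwa [hk, mul_inv_cancel_left] at this
    · intro hg
      rw [ρ₀_eq g (S.J_le hg)]
      exact (N.ρ_ker _).2 hg
  have hcardU : Nat.card uGroup = 25920 := by
    have h1 := Subgroup.card_mul_index ρ₀.ker
    rw [Subgroup.index_ker, N.ρ_range, N.card_cent] at h1
    have hk : Nat.card ρ₀.ker = 2 ^ 9 := by
      rw [← N.card_J]
      exact Nat.card_congr
        ⟨fun x => ⟨x.1.1, (N.ρ_ker x.1).1 x.2⟩, fun y => ⟨⟨y.1, N.le_cent y.2⟩, (N.ρ_ker _).2 y.2⟩,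
          fun x => rfl, fun y => rfl⟩
    rw [hk] at h1
    exact Nat.eq_of_mul_eq_mul_left (by norm_num) h1
  have hω : omegaPerm ∉ uGroup := by
    intro h
    rw [← range₀] at h
    obtain ⟨g, hg, hgω⟩ := h
    have hg' : (g : G) ∈ H₀ := hg
    have hcen : π ⟨g, hg'⟩ ∈ Subgroup.center (Cfsg.PSp 2 F) := Subgroup.mem_center_iff.2 fun p => by
      obtain ⟨y, rfl⟩ := S.π_surj p
      let y' : C := ⟨y, S.le_cent y.2⟩
      have h1 : ρ (y' * g * y'⁻¹ * g⁻¹) = 1 := by
        rw [map_mul, map_mul, map_mul, map_inv, map_inv, hgω,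
          omegaPerm_comm (uGroup_le_isom (mem_u y' y.2))]
        simp
      have h2 : π (y * ⟨g, hg'⟩ * y⁻¹ * ⟨g, hg'⟩⁻¹) = 1 := (S.π_ker _).2 ((ρ_ker _).1 h1)
      rw [map_mul, map_mul, map_mul, map_inv, map_inv, mul_inv_eq_one, mul_inv_eq_iff_eq_mul] at h2
      exact h2
    rw [H48.center_psp_eq_bot le_rfl (fun _ => by have := S.card_F; omega), Subgroup.mem_bot,
      S.π_ker] at hcen
    exact omegaPerm_ne_one (hgω.symm.trans ((ρ_ker g).2 hcen))
  have hanti : ∀ g : C, (g : G) ∉ H₀ → IsAnti (ρ g) := by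
    intro g hg
    set f := ρ g with hf
    have hfadd : ∀ a b, f (vadd a b) = vadd (f a) (f b) := ρ_add g
    have hfiadd : ∀ a b, f⁻¹ (vadd a b) = vadd (f⁻¹ a) (f⁻¹ b) := by
      rw [hf, ← map_inv]; exact ρ_add g⁻¹
    have hcomm : ∀ i, f * omegaPerm * f⁻¹ * tv i = tv i * (f * omegaPerm * f⁻¹) := by
      intro i
      have hm : tv i ∈ uGroup := Subgroup.subset_closure ⟨i, rfl⟩
      rw [← range₀] at hm
      obtain ⟨x, hx, hxi⟩ := hm
      have hx' : ρ (g⁻¹ * x * g) ∈ uGroup := mem_u _ (by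
        have := S.conj_H₀ (g : G)⁻¹ (inv_mem g.2) x hx
        simpa using this)
      rw [map_mul, map_mul, map_inv, hxi, ← hf] at hx'
      have h' := omegaPerm_comm (uGroup_le_isom hx')
      calc f * omegaPerm * f⁻¹ * tv i = f * (omegaPerm * (f⁻¹ * tv i * f)) * f⁻¹ := by group
        _ = f * (f⁻¹ * tv i * f * omegaPerm) * f⁻¹ := by rw [h']
        _ = tv i * (f * omegaPerm * f⁻¹) := by group
    obtain ⟨c, hc⟩ := commutant (f := f * omegaPerm * f⁻¹) (fun a b => by
      simp only [Equiv.Perm.mul_apply, omegaPerm_apply, hfiadd, smul4_vadd (show 2 < 4 by norm_num),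
        hfadd]) hcomm
    have hc' : ∀ a, f (smul4 2 a) = smul4 c (f a) := fun a => by
      rw [← hc]; simp [omegaPerm_apply]
    have hc0 : c ≠ 0 := fun h => by
      subst h
      exact absurd (f.injective ((hc' 1).trans (by
        show smul4 0 (f 1) = f 0
        have h0 := hfadd 0 0
        rw [vadd_self, vadd_self] at h0
        rw [smul4_zero_left, h0]))) (by decide)
    have hc1 : c ≠ 1 := fun h => by
      subst h
      exact absurd (f.injective ((hc' 1).trans (smul4_one _))) (by decide)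
    fin_cases c
    · exact absurd rfl hc0
    · exact absurd rfl hc1
    · exfalso
      have hfI : f ∈ isom := ⟨hfadd, hc', ρ_qv g⟩
      obtain ⟨u, hu, k, hk⟩ := isom_decomp hcardU hω hfI
      have hsq : f * f ∈ uGroup := by
        rw [hf, ← map_mul]
        exact mem_u _ (S.out_mul g g.2 g g.2 hg hg)
      have hk0 : k.val = 0 := by
        have hcu : Commute u omegaPerm := omegaPerm_comm (uGroup_le_isom hu)
        rw [hk, ← pow_two, (hcu.pow_right _).mul_pow, ← pow_mul] at hsq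
        have h2 : omegaPerm ^ (k.val * 2) ∈ uGroup := by
          have := mul_mem (inv_mem (pow_mem hu 2)) hsq
          rwa [inv_mul_cancel_left] at this
        by_contra hne
        apply hω
        rcases (show k.val = 1 ∨ k.val = 2 by omega) with e | e <;> rw [e] at h2
        · have := mul_mem h2 h2
          rwa [← pow_add, show 1 * 2 + 1 * 2 = 3 + 1 from rfl, pow_succ, omegaPerm_cube,
            one_mul] at this
        · rwa [show 2 * 2 = 3 + 1 from rfl, pow_succ, omegaPerm_cube, one_mul] at h2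
      rw [hk0, pow_zero, mul_one] at hk
      rw [← hk, ← range₀] at hu
      obtain ⟨x, hx, hxg⟩ := hu
      have hgx : ρ (g * x⁻¹) = 1 := by rw [map_mul, map_inv, hxg, mul_inv_cancel]
      have h2 := mul_mem (S.J_le ((ρ_ker _).1 hgx)) hx
      exact hg (by simpa using h2)
    · have hlin : IsLin (f * sigC) := isLin_of_isom ⟨fun a b => by
          simp only [Equiv.Perm.mul_apply, sigC_anti.add, hfadd], fun a => ?_, fun a => by
          simp only [Equiv.Perm.mul_apply, ρ_qv, hf, sigC_anti.qv_eq]⟩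
      swap
      · simp only [Equiv.Perm.mul_apply]
        rw [show sigC (smul4 2 a) = smul4 (fconj 2) (sigC a) from sigC_anti.smul 2 a,
          show fconj 2 = fmul 2 2 by decide, ← smul4_smul4 (by norm_num) (by norm_num), hc', hc']
        show smul4 3 (smul4 3 _) = _
        rw [smul4_smul4 (by norm_num) (by norm_num), show fmul 3 3 = 2 by decide]
      have := hlin.mul_anti sigC_anti
      rwa [mul_assoc, sigC_mul_self, mul_one] at this
  refine ⟨φ, ρ,
    { sq := S.sq
      ne_one := S.ne_one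
      le_cent := S.le_cent
      J_le := S.J_le
      z_mem := S.z_mem
      card_J := S.card_J
      conj_mem := S.conj_mem
      φ_mul := φ_mul
      φ_surj := fun v => ⟨lift v, hlift v, hlφ v⟩
      φ_ker := φ_ker
      φ_sq := φ_sq
      φ_comm := φ_comm
      ρ_φ := ρ_φ
      ρ_ker := ρ_ker
      card_cent := S.card_cent
      card_H₀ := S.card_H₀
      range₀ := range₀
      lin_of_mem := fun g hg => isLin_of_isom (uGroup_le_isom (mem_u g hg))
      anti_of_not_mem := hanti }, ?_⟩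
  obtain ⟨o, ho⟩ : ∃ o : C, (o : G) ∉ H₀ := by
    by_contra! h
    have hle : C ≤ H₀ := fun g hg => h ⟨g, hg⟩
    have := Subgroup.card_le_of_le hle
    rw [hC, S.card_cent, S.card_H₀] at this
    norm_num at this
  obtain ⟨u, hu, k, hk⟩ := isom_decomp hcardU hω (isom_of_isLin ((hanti o ho).mul sigC_anti))
  obtain ⟨x, hx, hxu⟩ : u ∈ (H₀.subgroupOf C).map ρ := range₀ ▸ hu
  obtain ⟨c, hc, hcγ⟩ : gam ∈ (H₀.subgroupOf C).map ρ := range₀ ▸ gam_mem
  refine ⟨_, _, outPair k, x⁻¹ * o, c, ?_, hcγ⟩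
  have ho' : ρ o = u * omegaPerm ^ k.val * sigC := by
    rw [← hk, mul_assoc, sigC_mul_self, mul_one]
  rw [map_mul, map_inv, hxu, ho', ← mul_assoc, inv_mul_cancel_left]

end H2.U6E
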