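import Cfsg.Agent.H38.U6C.Basic
import Cfsg.Agent.H30.ExtraspecialTwo
import Cfsg.Agent.H48.InnCard
import Cfsg.Agent.H50.SpMultiplier
import Cfsg.Agent.S0814

/-!
The data of S3231 in the ambient group: the core `J` of the involution centraliser and its subgroup
`H₀` of index two over the inner automorphisms.
-/

set_option autoImplicit false

namespace H2.U6E

/-- An involution centraliser with an extraspecial self-centralising core `J` and a subgroup `H₀`
of index two mapped by `π` onto the projective symplectic group with kernel `J`. -/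
structure Setup {G : Type*} [Group G] {F : Type*} [Field F] [Fintype F] (z : G)
    (J H₀ : Subgroup G) (π : ↥H₀ →* Cfsg.PSp 2 F) : Prop where
  card_F : Fintype.card F = 3
  sq : z * z = 1
  ne_one : z ≠ 1
  le_cent : H₀ ≤ Subgroup.centralizer ({z} : Set G)
  J_le : J ≤ H₀
  z_mem : z ∈ J
  card_J : Nat.card J = 2 ^ 9
  conj_mem : ∀ g ∈ Subgroup.centralizer ({z} : Set G), ∀ j ∈ J, g * j * g⁻¹ ∈ J
  conj_H₀ : ∀ g ∈ Subgroup.centralizer ({z} : Set G), ∀ h ∈ H₀, g * h * g⁻¹ ∈ H₀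
  out_mul : ∀ g ∈ Subgroup.centralizer ({z} : Set G), ∀ h ∈ Subgroup.centralizer ({z} : Set G),
    g ∉ H₀ → h ∉ H₀ → g * h ∈ H₀
  sq_mem : ∀ a ∈ J, a * a = 1 ∨ a * a = z
  comm_mem : ∀ a ∈ J, ∀ b ∈ J, a * b = b * a ∨ a * b = b * a * z
  center : ∀ a ∈ J, (∀ b ∈ J, Commute a b) → a = 1 ∨ a = z
  self_cent : ∀ g ∈ Subgroup.centralizer ({z} : Set G), (∀ j ∈ J, Commute g j) → g ∈ J
  inner : ∀ g ∈ Subgroup.centralizer ({z} : Set G), (∀ h ∈ H₀, g * h * g⁻¹ * h⁻¹ ∈ J) → g ∈ H₀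
  π_surj : Function.Surjective π
  π_ker : ∀ g : ↥H₀, π g = 1 ↔ (g : G) ∈ J
  card_cent : Nat.card (Subgroup.centralizer ({z} : Set G)) = 2 ^ 10 * 25920
  card_H₀ : Nat.card H₀ = 2 ^ 9 * 25920
  card_psp : Nat.card (Cfsg.PSp 2 F) = 25920
  simple_psp : IsSimpleGroup (Cfsg.PSp 2 F)

theorem card_psp_two {F : Type*} [Field F] [Fintype F] (hF : Fintype.card F = 3) :
    Nat.card (Cfsg.PSp 2 F) = 25920 := by
  classical
  have h1 := Subgroup.card_eq_card_quotient_mul_card_subgroup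
    (Subgroup.center (Matrix.symplecticGroup (Fin 2) F))
  rw [H50.SpMult.card_center (by norm_num), H48.card_sp, Fintype.card_fin, hF] at h1
  rw [Finset.prod_range_succ, Finset.prod_range_succ, Finset.prod_range_zero] at h1
  refine Nat.eq_of_mul_eq_mul_right (by norm_num : 0 < 2) (Eq.trans ?_ (h1.symm.trans ?_))
  · exact congrArg (· * 2) rfl
  · norm_num

/-- The hypotheses of S3231 give the data. -/
theorem exists_setup {G : Type*} [Group G] [Finite G] (z : G) (hz : orderOf z = 2)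
    {F : Type*} [Field F] [Fintype F] (hF : Fintype.card F = 3)
    (hJ : Cfsg.IsExtraspecial 2 ↥(Cfsg.pCore 2 ↥(Subgroup.centralizer ({z} : Set G))))
    (hJc : Nat.card ↥(Cfsg.pCore 2 ↥(Subgroup.centralizer ({z} : Set G))) = 2 ^ 9)
    (hCJ : Subgroup.centralizer ((Cfsg.pCore 2 ↥(Subgroup.centralizer ({z} : Set G))) :
      Set ↥(Subgroup.centralizer ({z} : Set G))) ≤
        Cfsg.pCore 2 ↥(Subgroup.centralizer ({z} : Set G)))
    [hJn : (Cfsg.pCore 2 ↥(Subgroup.centralizer ({z} : Set G))).Normal]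
    (e : (↥(Subgroup.centralizer ({z} : Set G)) ⧸
      Cfsg.pCore 2 ↥(Subgroup.centralizer ({z} : Set G))) ≃* MulAut (Cfsg.PSp 2 F)) :
    ∃ (H₀ : Subgroup G) (π : ↥H₀ →* Cfsg.PSp 2 F), Setup z
      ((Cfsg.pCore 2 ↥(Subgroup.centralizer ({z} : Set G))).map
        (Subgroup.centralizer ({z} : Set G)).subtype) H₀ π := by
  classical
  set C := Subgroup.centralizer ({z} : Set G) with hC
  set P := Cfsg.pCore 2 ↥C with hP
  have hsimple : IsSimpleGroup (Cfsg.PSp 2 F) :=
    H48.isSimpleGroup_psp (Or.inr (Or.inl ⟨by simp, by omega⟩))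
  have hcardP := card_psp_two hF
  haveI : Fact (Nat.Prime 3) := ⟨Nat.prime_three⟩
  have hcardA : Nat.card (MulAut (Cfsg.PSp 2 F)) = 51840 := by
    rw [Cfsg.Agent.S0814.result 3 1 le_rfl (by rw [hF, pow_one]) 2 le_rfl (fun _ => by norm_num),
      hcardP]
    norm_num
  have hzz : z * z = 1 := by rw [← sq, ← hz, pow_orderOf_eq_one]
  have hz1 : z ≠ 1 := fun h => by rw [h, orderOf_one] at hz; omega
  have hzC : z ∈ C := Subgroup.mem_centralizer_iff.2 fun x hx => by
    rw [Set.mem_singleton_iff.1 hx]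
  have hzcomm : ∀ g : C, Commute (⟨z, hzC⟩ : C) g := fun g =>
    Subtype.ext (Subgroup.mem_centralizer_iff.1 g.2 z rfl)
  have hzP : (⟨z, hzC⟩ : C) ∈ P := hCJ (Subgroup.mem_centralizer_iff.2 fun g _ =>
    ((hzcomm g).eq).symm)
  obtain ⟨w, hw, hwc, hcomm, hsq⟩ := H30.center_data hJ
  have hzw : (⟨⟨z, hzC⟩, hzP⟩ : P) = w := by
    have hmem : (⟨⟨z, hzC⟩, hzP⟩ : P) ∈ Subgroup.center P :=
      Subgroup.mem_center_iff.2 fun g => Subtype.ext ((hzcomm g.1).eq).symm
    rw [hwc] at hmem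
    rcases H30.zpowers_two_cases hw hmem with h | h
    · exact absurd (congrArg (fun x : P => ((x : C) : G)) h) hz1
    · exact h
  have hwz : ((w : C) : G) = z := by rw [← hzw]
  have htwo : ∀ x : P, x ∈ Subgroup.zpowers w → ((x : C) : G) = 1 ∨ ((x : C) : G) = z := by
    intro x hx
    rcases H30.zpowers_two_cases hw hx with rfl | rfl
    · exact Or.inl rfl
    · exact Or.inr hwz
  let f : C →* MulAut (Cfsg.PSp 2 F) := e.toMonoidHom.comp (QuotientGroup.mk' P)
  have hf : Function.Surjective f := e.surjective.comp (QuotientGroup.mk'_surjective P)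
  have hfk : ∀ g, f g = 1 ↔ g ∈ P := fun g => by
    show e (QuotientGroup.mk' P g) = 1 ↔ _
    rw [e.map_eq_one_iff, QuotientGroup.mk'_apply, QuotientGroup.eq_one_iff]
  have hinj : Function.Injective (MulAut.conj : Cfsg.PSp 2 F →* MulAut (Cfsg.PSp 2 F)) := by
    rw [injective_iff_map_eq_one]
    intro x hx
    have hx' : x ∈ Subgroup.center (Cfsg.PSp 2 F) := Subgroup.mem_center_iff.2 fun y => by
      have h := DFunLike.congr_fun hx y
      rw [MulAut.conj_apply, MulAut.one_apply, mul_inv_eq_iff_eq_mul] at h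
      exact h.symm
    rwa [H48.center_psp_eq_bot le_rfl (fun _ => by omega), Subgroup.mem_bot] at hx'
  let I : Subgroup (MulAut (Cfsg.PSp 2 F)) :=
    (MulAut.conj : Cfsg.PSp 2 F →* MulAut (Cfsg.PSp 2 F)).range
  have hIcard : Nat.card I = 25920 := by
    rw [← hcardP]
    exact (Nat.card_congr (MonoidHom.ofInjective hinj).toEquiv).symm
  have hIidx : I.index = 2 := by
    have := Subgroup.card_mul_index I
    rw [hIcard, hcardA] at this
    omega
  let K : Subgroup C := I.comap f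
  have hKidx : K.index = 2 := by rw [Subgroup.index_comap_of_surjective _ hf, hIidx]
  have hKn : K.Normal := Subgroup.normal_of_index_eq_two hKidx
  have hcardC : Nat.card C = 2 ^ 10 * 25920 := by
    rw [Subgroup.card_eq_card_quotient_mul_card_subgroup P, Nat.card_congr e.toEquiv, hcardA, hJc]
    norm_num
  have hPK : P ≤ K := fun x hx => by
    show f x ∈ I
    rw [(hfk x).2 hx]
    exact one_mem _
  have hmem : ∀ g, g ∈ K.map C.subtype → ∃ hg : g ∈ C, (⟨g, hg⟩ : C) ∈ K := by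
    rintro _ ⟨x, hx, rfl⟩
    exact ⟨x.2, hx⟩
  have hcan : ∀ g : C, g ∈ K → (g : G) ∈ K.map C.subtype := fun g hg => ⟨g, hg, rfl⟩
  have hout : ∀ g ∈ C, ∀ h ∈ C, g ∉ K.map C.subtype → h ∉ K.map C.subtype →
      g * h ∈ K.map C.subtype := by
    intro g hg h hh hgn hhn
    refine hcan (⟨g, hg⟩ * ⟨h, hh⟩) ((Subgroup.mul_mem_iff_of_index_two hKidx).2 ?_)
    exact ⟨fun h' => absurd (hcan _ h') hgn, fun h' => absurd (hcan _ h') hhn⟩
  let g₀ : ↥(K.map C.subtype) →* I :=
    { toFun := fun g => ⟨f ⟨g, (hmem g g.2).1⟩, (hmem g g.2).2⟩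
      map_one' := Subtype.ext (by exact map_one f)
      map_mul' := fun a b => Subtype.ext (by
        exact map_mul f ⟨a, (hmem a a.2).1⟩ ⟨b, (hmem b b.2).1⟩) }
  let π : ↥(K.map C.subtype) →* Cfsg.PSp 2 F :=
    (MonoidHom.ofInjective hinj).symm.toMonoidHom.comp g₀
  refine ⟨K.map C.subtype, π, ?_⟩
  refine
    { card_F := hF
      sq := hzz
      ne_one := hz1
      le_cent := fun g hg => (hmem g hg).1
      J_le := Subgroup.map_mono hPK
      z_mem := ⟨_, hzP, rfl⟩
      card_J := by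
        rw [← hJc]
        exact (Nat.card_congr (P.equivMapOfInjective _ C.subtype_injective).toEquiv).symm
      conj_mem := fun g hg j hj => ?_
      conj_H₀ := fun g hg h hh => ?_
      out_mul := hout
      sq_mem := fun a ha => ?_
      comm_mem := fun a ha b hb => ?_
      center := fun a ha hc => ?_
      self_cent := fun g hg hc => ?_
      inner := fun g hg hc => ?_
      π_surj := fun p => ?_
      π_ker := fun g => ?_
      card_cent := hcardC
      card_H₀ := ?_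
      card_psp := hcardP
      simple_psp := hsimple }
  · obtain ⟨x, hx, rfl⟩ := hj
    exact ⟨⟨g, hg⟩ * x * ⟨g, hg⟩⁻¹, hJn.conj_mem x hx _, rfl⟩
  · obtain ⟨x, hx, rfl⟩ := hh
    exact ⟨⟨g, hg⟩ * x * ⟨g, hg⟩⁻¹, hKn.conj_mem x hx _, rfl⟩
  · obtain ⟨x, hx, rfl⟩ := ha
    have := htwo (⟨x, hx⟩ ^ 2) (hsq _)
    simpa [pow_two] using this
  · obtain ⟨x, hx, rfl⟩ := ha
    obtain ⟨y, hy, rfl⟩ := hb
    rcases htwo _ (hcomm ⟨x, hx⟩ ⟨y, hy⟩) with h | h
    · left
      have h' : (x : G) * y * (x : G)⁻¹ * (y : G)⁻¹ = 1 := by simpa [commutatorElement_def] using h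
      rw [mul_inv_eq_one, mul_inv_eq_iff_eq_mul] at h'
      exact h'
    · right
      have h' : (x : G) * y * (x : G)⁻¹ * (y : G)⁻¹ = z := by simpa [commutatorElement_def] using h
      have h3 : Commute z ((y : G) * x) := congrArg Subtype.val (hzcomm (y * x)).eq
      show (x : G) * y = y * x * z
      rw [← h3.eq, ← h']
      group
  · obtain ⟨x, hx, rfl⟩ := ha
    refine htwo ⟨x, hx⟩ (hwc ▸ Subgroup.mem_center_iff.2 fun y => ?_)
    exact Subtype.ext (Subtype.ext (hc _ ⟨(y : C), y.2, rfl⟩).eq.symm)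
  · refine ⟨⟨g, hg⟩, hCJ (Subgroup.mem_centralizer_iff.2 fun y hy => ?_), rfl⟩
    exact Subtype.ext (hc _ ⟨y, hy, rfl⟩).eq.symm
  · refine hcan ⟨g, hg⟩ ?_
    show f ⟨g, hg⟩ ∈ I
    have h1 : ∀ p : Cfsg.PSp 2 F, f ⟨g, hg⟩ p = p := by
      intro p
      obtain ⟨c, hc'⟩ := hf (MulAut.conj p)
      have hck : c ∈ K := by
        show f c ∈ I
        rw [hc']; exact ⟨p, rfl⟩
      obtain ⟨x, hx, hxe⟩ := hc c (hcan c hck)
      have hx1 : ⟨g, hg⟩ * c * (⟨g, hg⟩ : C)⁻¹ * c⁻¹ = x := Subtype.ext hxe.symm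
      have h2 := (hfk _).2 hx
      rw [← hx1, map_mul, map_mul, map_mul, map_inv, map_inv, hc', mul_inv_eq_one,
        mul_inv_eq_iff_eq_mul] at h2
      refine hinj (MulEquiv.ext fun q => ?_)
      have h3 := DFunLike.congr_fun h2 ((f ⟨g, hg⟩).symm q)
      simp only [MulAut.mul_apply, MulAut.conj_apply, map_mul, map_inv,
        MulEquiv.apply_symm_apply] at h3
      simpa [MulAut.conj_apply] using h3
    rw [show f ⟨g, hg⟩ = 1 from MulEquiv.ext h1]
    exact one_mem _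
  · obtain ⟨c, hc⟩ := hf (MulAut.conj p)
    have hck : c ∈ K := by
      show f c ∈ I
      rw [hc]; exact ⟨p, rfl⟩
    refine ⟨⟨c, hcan c hck⟩, ?_⟩
    show (MonoidHom.ofInjective hinj).symm (g₀ _) = p
    rw [MulEquiv.symm_apply_eq]
    exact Subtype.ext hc
  · show (MonoidHom.ofInjective hinj).symm (g₀ g) = 1 ↔ _
    rw [MulEquiv.map_eq_one_iff]
    constructor
    · intro h
      exact ⟨⟨g, (hmem g g.2).1⟩, (hfk _).1 (congrArg Subtype.val h), rfl⟩
    · rintro ⟨x, hx, he⟩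
      refine Subtype.ext ?_
      show f ⟨g, _⟩ = 1
      rw [hfk]
      have : x = ⟨(g : G), (hmem g g.2).1⟩ := Subtype.ext he
      exact this ▸ hx
  · rw [← Nat.card_congr (K.equivMapOfInjective _ C.subtype_injective).toEquiv]
    have := Subgroup.card_mul_index K
    rw [hKidx, hcardC] at this
    omega

variable {G : Type*} [Group G] {F : Type*} [Field F] [Fintype F] {z : G} {J H₀ : Subgroup G}
  {π : ↥H₀ →* Cfsg.PSp 2 F}

/-- Inside `H₀` the data of the recognition of the unitary group hold. -/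
theorem Setup.base (S : Setup z J H₀ π) :
    H38.U6C.Base (G := ↥H₀) ⟨z, S.J_le S.z_mem⟩ (J.subgroupOf H₀)
      (π.comp (Subgroup.centralizer ({(⟨z, S.J_le S.z_mem⟩ : ↥H₀)} : Set ↥H₀)).subtype) := by
  have hall : ∀ g : ↥H₀, g ∈ Subgroup.centralizer ({(⟨z, S.J_le S.z_mem⟩ : ↥H₀)} : Set ↥H₀) :=
    fun g => Subgroup.mem_centralizer_iff.2 fun x hx => by
      rw [Set.mem_singleton_iff.1 hx]
      exact Subtype.ext (Subgroup.mem_centralizer_iff.1 (S.le_cent g.2) z rfl)
  refine ⟨S.card_F, Subtype.ext S.sq, fun h => S.ne_one (congrArg Subtype.val h), fun g _ => hall g,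
    S.z_mem, ?_, fun g _ j hj => S.conj_mem g (S.le_cent g.2) j hj, fun a ha => ?_,
    fun a ha b hb => ?_, fun a ha hc => ?_, fun g _ hc => ?_, fun p => ?_, fun g => S.π_ker _, ?_⟩
  · rw [Nat.card_congr (Subgroup.subgroupOfEquivOfLe S.J_le).toEquiv, S.card_J]
  · exact (S.sq_mem a ha).imp (fun h => Subtype.ext h) (fun h => Subtype.ext h)
  · exact (S.comm_mem a ha b hb).imp (fun h => Subtype.ext h) (fun h => Subtype.ext h)
  · exact (S.center a ha fun b hb => congrArg Subtype.val (hc ⟨b, S.J_le hb⟩ hb).eq).imp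
      (fun h => Subtype.ext h) (fun h => Subtype.ext h)
  · exact S.self_cent g (S.le_cent g.2) fun j hj => congrArg Subtype.val (hc ⟨j, S.J_le hj⟩ hj).eq
  · obtain ⟨g, hg⟩ := S.π_surj p
    exact ⟨⟨g, hall g⟩, hg⟩
  · rw [show Subgroup.centralizer ({(⟨z, S.J_le S.z_mem⟩ : ↥H₀)} : Set ↥H₀) = ⊤ from
      top_unique fun g _ => hall g, Subgroup.card_top, S.card_H₀]

end H2.U6E
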