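import Cfsg.Agent.H38.U6C.Basic

/-!
Interfaces for an involution centraliser of shape `2^(1+8).U₄(2).2` (statement S3231): the action
on the natural module is linear on the index-two subgroup and semilinear outside it.
-/

set_option autoImplicit false

namespace H2.U6E

open H38.U6C

/-- An additive isometry commuting with the scalars. -/
structure IsLin (f : Equiv.Perm V) : Prop where
  add : ∀ a b, f (vadd a b) = vadd (f a) (f b)
  smul : ∀ c : Fin 4, ∀ a, f (smul4 c a) = smul4 c (f a)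
  herm_eq : ∀ a b, herm (f a) (f b) = herm a b

/-- An additive isometry inverting the scalars. -/
structure IsAnti (f : Equiv.Perm V) : Prop where
  add : ∀ a b, f (vadd a b) = vadd (f a) (f b)
  smul : ∀ c : Fin 4, ∀ a, f (smul4 c a) = smul4 (fconj c) (f a)
  herm_eq : ∀ a b, herm (f a) (f b) = fconj (herm a b)

/-- A semilinear involution with singular fixed space and an element of order five centralising
it without fixed vectors there. -/
structure OutPair (σ γ : Equiv.Perm V) : Prop where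
  anti : IsAnti σ
  invol : σ * σ = 1
  sing : ∀ a, σ a = a → qv a = false
  lin : IsLin γ
  pow_five : γ ^ 5 = 1
  comm : σ * γ = γ * σ
  free : ∀ a, σ a = a → γ a = a → a = 0

variable {G : Type*} [Group G]

/-- The involution centraliser read on the natural module, with its index-two subgroup `H₀`. -/
structure Ctx (z : G) (J H₀ : Subgroup G) (φ : G → V)
    (ρ : ↥(Subgroup.centralizer ({z} : Set G)) →* Equiv.Perm V) : Prop where
  sq : z * z = 1
  ne_one : z ≠ 1
  le_cent : H₀ ≤ Subgroup.centralizer ({z} : Set G)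
  J_le : J ≤ H₀
  z_mem : z ∈ J
  card_J : Nat.card J = 2 ^ 9
  conj_mem : ∀ g ∈ Subgroup.centralizer ({z} : Set G), ∀ j ∈ J, g * j * g⁻¹ ∈ J
  φ_mul : ∀ a ∈ J, ∀ b ∈ J, φ (a * b) = vadd (φ a) (φ b)
  φ_surj : ∀ v, ∃ a ∈ J, φ a = v
  φ_ker : ∀ a ∈ J, (φ a = 0 ↔ a = 1 ∨ a = z)
  φ_sq : ∀ a ∈ J, a * a = if qv (φ a) then z else 1
  φ_comm : ∀ a ∈ J, ∀ b ∈ J, a * b = b * a * if pol (φ a) (φ b) then z else 1
  ρ_φ : ∀ (g : ↥(Subgroup.centralizer ({z} : Set G))) (j : G), j ∈ J →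
    φ ((g : G) * j * (g : G)⁻¹) = ρ g (φ j)
  ρ_ker : ∀ g : ↥(Subgroup.centralizer ({z} : Set G)), ρ g = 1 ↔ (g : G) ∈ J
  card_cent : Nat.card (Subgroup.centralizer ({z} : Set G)) = 2 ^ 10 * 25920
  card_H₀ : Nat.card H₀ = 2 ^ 9 * 25920
  range₀ : (H₀.subgroupOf (Subgroup.centralizer ({z} : Set G))).map ρ = uGroup
  lin_of_mem : ∀ g : ↥(Subgroup.centralizer ({z} : Set G)), (g : G) ∈ H₀ → IsLin (ρ g)
  anti_of_not_mem : ∀ g : ↥(Subgroup.centralizer ({z} : Set G)), (g : G) ∉ H₀ → IsAnti (ρ g)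

universe u

/-- No outer element over the involution of a pair is conjugate to `z`. -/
def CKillStmt : Prop :=
  ∀ {G : Type u} [Group G] [Finite G] {z : G} {J H₀ : Subgroup G} {φ : G → V}
    {ρ : ↥(Subgroup.centralizer ({z} : Set G)) →* Equiv.Perm V}, Ctx z J H₀ φ ρ → WCJ z J →
    ∀ (σ γ : Equiv.Perm V), OutPair σ γ →
    ∀ t c x : ↥(Subgroup.centralizer ({z} : Set G)), ρ t = σ → ρ c = γ → ρ x = σ →
    ¬ IsConj z (x : G)

/-- `z` has no other conjugate in `J`. -/
def WCJTwoStmt : Prop :=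
  ∀ {G : Type u} [Group G] [Finite G] {z : G} {J H₀ : Subgroup G} {φ : G → V}
    {ρ : ↥(Subgroup.centralizer ({z} : Set G)) →* Equiv.Perm V}, Ctx z J H₀ φ ρ → WCJ z J

/-- The transfer. -/
def IndexTwoStmt : Prop :=
  ∀ {G : Type u} [Group G] [Finite G] {z : G} {J H₀ : Subgroup G} {φ : G → V}
    {ρ : ↥(Subgroup.centralizer ({z} : Set G)) →* Equiv.Perm V}, Ctx z J H₀ φ ρ → WCJ z J →
    ∀ (σ γ : Equiv.Perm V), OutPair σ γ →
    ∀ t c : ↥(Subgroup.centralizer ({z} : Set G)), ρ t = σ → ρ c = γ →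
    (∀ x : ↥(Subgroup.centralizer ({z} : Set G)), ρ x = σ → ¬ IsConj z (x : G)) →
    ∃ G₀ : Subgroup G, G₀.index = 2 ∧ G₀ ⊓ Subgroup.centralizer ({z} : Set G) = H₀

end H2.U6E
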