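import Cfsg.Agent.H2.U6E.Setup
import Cfsg.Agent.H35.U6E.Ext
import Cfsg.Agent.H38.U6C.Stmts

/-!
The case with two fixed dimensions read on the whole involution centraliser.
-/

set_option autoImplicit false

namespace H2.U6E

open H38.U6C

universe u v

/-- The coordinates of the case with two fixed dimensions. -/
theorem exists_fixCtx (hF8 : Fix8Stmt.{u, v}) {G : Type u} [Group G] [Finite G] {F : Type v}
    [Field F] [Fintype F] {z : G} {J H₀ : Subgroup G} {π : ↥H₀ →* Cfsg.PSp 2 F}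
    (S : Setup z J H₀ π) (U : Subgroup H₀)
    (hU : Fixed2 (G := ↥H₀) ⟨z, S.J_le S.z_mem⟩ (J.subgroupOf H₀) U) :
    ∃ (m : Bool) (t : Fin 4) (φ : G → V)
      (ρ : ↥(Subgroup.centralizer ({z} : Set G)) →* Equiv.Perm V),
      H35.U6E.FixCtx z J H₀ m t φ ρ := by
  obtain ⟨m, φ₀, ρ₀, h8⟩ := hF8 S.base hU
  obtain ⟨t, φ, ρ, hX⟩ := H35.U6E.ext z J H₀ S.sq S.ne_one S.le_cent S.J_le S.z_mem S.card_J
    S.conj_mem S.conj_H₀ S.self_cent S.inner S.card_cent S.card_H₀ m φ₀ ρ₀ h8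
  exact ⟨m, t, φ, ρ, hX⟩

end H2.U6E
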